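import Cfsg.Agent.Lib.Helper18.ChevWeylOrd

set_option autoImplicit false
set_option maxRecDepth 100000

/-! The Coxeter matrices of the seven types. -/

namespace Cfsg.Agent.Lib.Helper18

open Cfsg.Lie Matrix

def coxTG2 : ℕ := 0x1060601
theorem ordBG2 : ordB reflTG2 12 2 coxTG2 = true := by decide +kernel
theorem coxEqG2 : (Matrix.of fun i j : Fin 2 => lk coxTG2 2 i j) = (CoxeterMatrix.G₂).M := by decide +kernel
theorem exists_cox_hom_G2 (F : Type*) [Field F] :
    ∃ φ : ↥(chevG2.monomialSubgroup F) →* (CoxeterMatrix.G₂).Group, Function.Surjective φ ∧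
      φ.ker = (chevG2.diagonalSubgroup F).subgroupOf (chevG2.monomialSubgroup F) ∧
      ∀ (i : Fin 2) (g : ↥(chevG2.monomialSubgroup F)),
        ((g : GL chevG2.Idx F) : Matrix chevG2.Idx chevG2.Idx F) = chevG2.nMat F (chevG2.simple i) 1 →
          φ g = (CoxeterMatrix.G₂).simple i :=
  (bnData_of_mem F (D := chevG2) (by simp)).exists_cox_hom (CoxeterMatrix.G₂)
    (fun i j => (orderOf_of_check _ agreeG2 ordBG2 i j).trans (congrFun (congrFun coxEqG2 i) j))

def coxTB2 : ℕ := 0x1040401
theorem ordBB2 : ordB reflTB2 8 2 coxTB2 = true := by decide +kernel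
theorem coxEqB2 : (Matrix.of fun i j : Fin 2 => lk coxTB2 2 i j) = (CoxeterMatrix.B 2).M := by decide +kernel
theorem exists_cox_hom_B2 (F : Type*) [Field F] :
    ∃ φ : ↥(chevB2.monomialSubgroup F) →* (CoxeterMatrix.B 2).Group, Function.Surjective φ ∧
      φ.ker = (chevB2.diagonalSubgroup F).subgroupOf (chevB2.monomialSubgroup F) ∧
      ∀ (i : Fin 2) (g : ↥(chevB2.monomialSubgroup F)),
        ((g : GL chevB2.Idx F) : Matrix chevB2.Idx chevB2.Idx F) = chevB2.nMat F (chevB2.simple i) 1 →
          φ g = (CoxeterMatrix.B 2).simple i :=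
  (bnData_of_mem F (D := chevB2) (by simp)).exists_cox_hom (CoxeterMatrix.B 2)
    (fun i j => (orderOf_of_check _ agreeB2 ordBB2 i j).trans (congrFun (congrFun coxEqB2 i) j))

def coxTD4 : ℕ := 0x1020302020103020303010302020301
theorem ordBD4 : ordB reflTD4 24 4 coxTD4 = true := by decide +kernel
theorem coxEqD4 : (Matrix.of fun i j : Fin 4 => lk coxTD4 4 i j) = (Cfsg.Lie.coxeterD4).M := by decide +kernel
theorem exists_cox_hom_D4 (F : Type*) [Field F] :
    ∃ φ : ↥(chevD4.monomialSubgroup F) →* (Cfsg.Lie.coxeterD4).Group, Function.Surjective φ ∧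
      φ.ker = (chevD4.diagonalSubgroup F).subgroupOf (chevD4.monomialSubgroup F) ∧
      ∀ (i : Fin 4) (g : ↥(chevD4.monomialSubgroup F)),
        ((g : GL chevD4.Idx F) : Matrix chevD4.Idx chevD4.Idx F) = chevD4.nMat F (chevD4.simple i) 1 →
          φ g = (Cfsg.Lie.coxeterD4).simple i :=
  (bnData_of_mem F (D := chevD4) (by simp)).exists_cox_hom (Cfsg.Lie.coxeterD4)
    (fun i j => (orderOf_of_check _ agreeD4 ordBD4 i j).trans (congrFun (congrFun coxEqD4 i) j))

def coxTF4 : ℕ := 0x1030202030104020204010302020301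
theorem ordBF4 : ordB reflTF4 48 4 coxTF4 = true := by decide +kernel
theorem coxEqF4 : (Matrix.of fun i j : Fin 4 => lk coxTF4 4 i j) = (CoxeterMatrix.F₄).M := by decide +kernel
theorem exists_cox_hom_F4 (F : Type*) [Field F] :
    ∃ φ : ↥(chevF4.monomialSubgroup F) →* (CoxeterMatrix.F₄).Group, Function.Surjective φ ∧
      φ.ker = (chevF4.diagonalSubgroup F).subgroupOf (chevF4.monomialSubgroup F) ∧
      ∀ (i : Fin 4) (g : ↥(chevF4.monomialSubgroup F)),
        ((g : GL chevF4.Idx F) : Matrix chevF4.Idx chevF4.Idx F) = chevF4.nMat F (chevF4.simple i) 1 →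
          φ g = (CoxeterMatrix.F₄).simple i :=
  (bnData_of_mem F (D := chevF4) (by simp)).exists_cox_hom (CoxeterMatrix.F₄)
    (fun i j => (orderOf_of_check _ agreeF4 ordBF4 i j).trans (congrFun (congrFun coxEqF4 i) j))

def coxTE6 : ℕ := 0x10302020202030103020202020301030302020203010203020203020102020202030201
theorem ordBE6 : ordB reflTE6 72 6 coxTE6 = true := by decide +kernel
theorem coxEqE6 : (Matrix.of fun i j : Fin 6 => lk coxTE6 6 i j) = (CoxeterMatrix.E₆).M := by decide +kernel
theorem exists_cox_hom_E6 (F : Type*) [Field F] :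
    ∃ φ : ↥(chevE6.monomialSubgroup F) →* (CoxeterMatrix.E₆).Group, Function.Surjective φ ∧
      φ.ker = (chevE6.diagonalSubgroup F).subgroupOf (chevE6.monomialSubgroup F) ∧
      ∀ (i : Fin 6) (g : ↥(chevE6.monomialSubgroup F)),
        ((g : GL chevE6.Idx F) : Matrix chevE6.Idx chevE6.Idx F) = chevE6.nMat F (chevE6.simple i) 1 →
          φ g = (CoxeterMatrix.E₆).simple i :=
  (bnData_of_mem F (D := chevE6) (by simp)).exists_cox_hom (CoxeterMatrix.E₆)
    (fun i j => (orderOf_of_check _ agreeE6 ordBE6 i j).trans (congrFun (congrFun coxEqE6 i) j))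

def coxTE7 : ℕ := 0x1030202020202030103020202020203010302020202020301030302020202030102030202020302010202020202030201
theorem ordBE7 : ordB reflTE7 126 7 coxTE7 = true := by decide +kernel
theorem coxEqE7 : (Matrix.of fun i j : Fin 7 => lk coxTE7 7 i j) = (CoxeterMatrix.E₇).M := by decide +kernel
theorem exists_cox_hom_E7 (F : Type*) [Field F] :
    ∃ φ : ↥(chevE7.monomialSubgroup F) →* (CoxeterMatrix.E₇).Group, Function.Surjective φ ∧
      φ.ker = (chevE7.diagonalSubgroup F).subgroupOf (chevE7.monomialSubgroup F) ∧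
      ∀ (i : Fin 7) (g : ↥(chevE7.monomialSubgroup F)),
        ((g : GL chevE7.Idx F) : Matrix chevE7.Idx chevE7.Idx F) = chevE7.nMat F (chevE7.simple i) 1 →
          φ g = (CoxeterMatrix.E₇).simple i :=
  (bnData_of_mem F (D := chevE7) (by simp)).exists_cox_hom (CoxeterMatrix.E₇)
    (fun i j => (orderOf_of_check _ agreeE7 ordBE7 i j).trans (congrFun (congrFun coxEqE7 i) j))

def coxTE8 : ℕ := 0x1030202020202020301030202020202020301030202020202020301030202020202020301030302020202020301020302020202030201020202020202030201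
theorem ordBE8 : ordB reflTE8 240 8 coxTE8 = true := by decide +kernel
theorem coxEqE8 : (Matrix.of fun i j : Fin 8 => lk coxTE8 8 i j) = (CoxeterMatrix.E₈).M := by decide +kernel
theorem exists_cox_hom_E8 (F : Type*) [Field F] :
    ∃ φ : ↥(chevE8.monomialSubgroup F) →* (CoxeterMatrix.E₈).Group, Function.Surjective φ ∧
      φ.ker = (chevE8.diagonalSubgroup F).subgroupOf (chevE8.monomialSubgroup F) ∧
      ∀ (i : Fin 8) (g : ↥(chevE8.monomialSubgroup F)),
        ((g : GL chevE8.Idx F) : Matrix chevE8.Idx chevE8.Idx F) = chevE8.nMat F (chevE8.simple i) 1 →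
          φ g = (CoxeterMatrix.E₈).simple i :=
  (bnData_of_mem F (D := chevE8) (by simp)).exists_cox_hom (CoxeterMatrix.E₈)
    (fun i j => (orderOf_of_check _ agreeE8 ordBE8 i j).trans (congrFun (congrFun coxEqE8 i) j))

end Cfsg.Agent.Lib.Helper18
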