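import Cfsg.Agent.Lib.Helper18.FixOrder
import Cfsg.Agent.Lib.Helper18.TwistOrb
import Cfsg.Agent.Lib.Helper36.ChevGen

set_option autoImplicit false

/-! The normal core of `B¹` in a twisted group is trivial (over the interface `FixBN`). -/

namespace Cfsg.Agent.Lib.Helper18

open Cfsg.Lie Matrix Cfsg.Agent.Lib.Helper6 Cfsg.Agent.Lib.Lead.FixTwist

variable {D : ChevalleyDatum} {K : Type*} [Field K]

namespace Base

variable (hB : Base D K)
include hB

lemma H_conj_Up {i : ℕ} {h u : GL D.Idx K} (hh : h ∈ D.diagonalSubgroup K) (hu : u ∈ hB.Up i) :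
    h * u * h⁻¹ ∈ hB.Up i := by
  obtain ⟨χ, _, e⟩ := hB.exists_dg hh
  unfold Up at hu
  induction hu using Subgroup.closure_induction with
  | mem x hx =>
    obtain ⟨s, t, hs, rfl⟩ := hx
    have := hB.H_conj_xg' hh e ⟨s, hs.1.1⟩ t
    rw [this]
    exact hB.xg_mem_Up hs _
  | one => simp
  | mul x y _ _ hx hy =>
    have : h * (x * y) * h⁻¹ = (h * x * h⁻¹) * (h * y * h⁻¹) := by group
    rw [this]; exact mul_mem hx hy
  | inv x _ hx =>
    have : h * x⁻¹ * h⁻¹ = (h * x * h⁻¹)⁻¹ := by group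
    rw [this]; exact inv_mem hx

/-- the coefficient of the fundamental root `p_i` in a word. -/
def coefW (D : ChevalleyDatum) (i : ℕ) (w : List (ℕ × K)) : K :=
  (w.map fun p => if p.1 = D.simple i then p.2 else 0).sum

/-- a word in positive root elements, modulo `U_p`. -/
lemma wg_eq_Up_mul (hT : Tabs2 D) {i : ℕ} (hi : i < D.rank) (w : List (ℕ × K))
    (hw : ∀ p ∈ w, D.IsPosRoot p.1) :
    ∃ u ∈ hB.Up i, hB.wg w = u * hB.xg (D.simple i) (coefW D i w) := by
  induction w with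
  | nil => exact ⟨1, one_mem _, by simp [wg, coefW]⟩
  | cons a w ih =>
    obtain ⟨u, hu, e⟩ := ih (fun p hp => hw p (by simp [hp]))
    have h1 : hB.wg (a :: w) = hB.xg a.1 a.2 * hB.wg w := by simp [wg]
    have h2 : coefW D i (a :: w) = (if a.1 = D.simple i then a.2 else 0) + coefW D i w := by
      simp [coefW]
    rw [h1, h2, e]
    by_cases ha : a.1 = D.simple i
    · rw [if_pos ha, ha]
      refine ⟨hB.xg (D.simple i) a.2 * u * (hB.xg (D.simple i) a.2)⁻¹, ?_, ?_⟩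
      · exact (Subgroup.mem_normalizer_iff.mp
          (hB.xg_conj_Up hT.ideal hT.tab hi (Or.inl rfl) (hB.xg_mem_root _ a.2)) u).mp hu
      · rw [← hB.xg_add]; group
    · rw [if_neg ha, zero_add]
      exact ⟨hB.xg a.1 a.2 * u, mul_mem (hB.xg_mem_Up ⟨hw a (by simp), ha⟩ _) hu, by group⟩

lemma wg_not_mem_Up (hT : Tabs2 D) {i : ℕ} (hi : i < D.rank) (w : List (ℕ × K))
    (hw : ∀ p ∈ w, D.IsPosRoot p.1) (hc : coefW D i w ≠ 0) : hB.wg w ∉ hB.Up i := by
  intro h
  obtain ⟨u, hu, e⟩ := hB.wg_eq_Up_mul hT hi w hw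
  apply hc
  apply hB.xg_simple_not_mem_Up hT hi
  have : hB.xg (D.simple i) (coefW D i w) = u⁻¹ * hB.wg w := by rw [e]; group
  rw [this]
  exact mul_mem (inv_mem hu) h

lemma wg_mem_U (w : List (ℕ × K)) (hw : ∀ p ∈ w, D.IsPosRoot p.1) : hB.wg w ∈ D.posUnipotent K := by
  apply Subgroup.list_prod_mem
  intro x hx
  obtain ⟨p, hp, rfl⟩ := List.mem_map.mp hx
  exact hB.xg_mem_pos (hw p hp) _

/-- a diagonal element commuting with an element of `U ∖ U_p` acts trivially on `X_p`. -/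
lemma chi_simple_eq_one (hT : Tabs2 D) {i : ℕ} (hi : i < D.rank) {h u : GL D.Idx K}
    (hh : h ∈ D.diagonalSubgroup K) {χ : Fin D.nroots → K} (hχ : (h : Matrix D.Idx D.Idx K) = dg D χ)
    (hu : u ∈ D.posUnipotent K) (hu2 : u ∉ hB.Up i) (hc : h * u = u * h) :
    χ ⟨D.simple i, hT.tab.simple_lt i hi⟩ = 1 := by
  obtain ⟨u', hu', t, rfl⟩ := (hB.mem_U_iff hT.ideal hT.tab hi).1 hu
  have ht : t ≠ 0 := by
    rintro rfl
    apply hu2
    rw [hB.xg_zero, mul_one]
    exact hu'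
  set c := χ ⟨D.simple i, hT.tab.simple_lt i hi⟩ with hcdef
  have h1 : h * hB.xg (D.simple i) t * h⁻¹ = hB.xg (D.simple i) (c * t) :=
    hB.H_conj_xg' hh hχ ⟨D.simple i, hT.tab.simple_lt i hi⟩ t
  have h2 := hB.H_conj_Up (i := i) hh hu'
  have h3 : (h * u' * h⁻¹) * hB.xg (D.simple i) (c * t) = u' * hB.xg (D.simple i) t := by
    rw [← h1]
    calc h * u' * h⁻¹ * (h * hB.xg (D.simple i) t * h⁻¹) = (h * (u' * hB.xg (D.simple i) t)) * h⁻¹ := by group
      _ = _ := by rw [hc]; group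
  have h4 : hB.xg (D.simple i) (c * t + -t) = (h * u' * h⁻¹)⁻¹ * u' := by
    rw [← hB.xg_add, ← hB.xg_inv]
    calc hB.xg (D.simple i) (c * t) * (hB.xg (D.simple i) t)⁻¹
        = (h * u' * h⁻¹)⁻¹ * ((h * u' * h⁻¹) * hB.xg (D.simple i) (c * t)) * (hB.xg (D.simple i) t)⁻¹ := by group
      _ = _ := by rw [h3]; group
  have h5 := hB.xg_simple_not_mem_Up hT hi (h4 ▸ mul_mem (inv_mem h2) hu')
  have h6 : (c - 1) * t = 0 := by linear_combination h5
  rcases mul_eq_zero.mp h6 with h | h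
  · linear_combination h
  · exact absurd h ht

/-- a diagonal element acting trivially on the fundamental root subgroups is trivial. -/
lemma eq_one_of_chi_simple (hT : Tabs2 D)
    (hneg : ∀ i < D.rank, ∀ s < D.nroots, D.cartan i (D.neg s) = - D.cartan i s) {h : GL D.Idx K}
    (hh : h ∈ D.diagonalSubgroup K) {χ : Fin D.nroots → K} (hχ : (h : Matrix D.Idx D.Idx K) = dg D χ)
    (h1 : ∀ i (hi : i < D.rank), χ ⟨D.simple i, hT.tab.simple_lt i hi⟩ = 1) : h = 1 := by
  have hTt := hT.tab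
  obtain ⟨c, hc, rfl⟩ := hB.exists_hprod hh
  have e := hB.coe_hprod c hc
  rw [hχ] at e
  have e' := dg_injective e
  have hinv : ∀ s (hs : s < D.nroots), χ ⟨D.neg s, hTt.neg_lt hs⟩ * χ ⟨s, hs⟩ = 1 := by
    intro s hs
    rw [e']
    show ((List.range D.rank).map fun i => c i ^ D.cartan i (D.neg s)).prod *
      ((List.range D.rank).map fun i => c i ^ D.cartan i s).prod = 1
    rw [← List.prod_map_mul]
    apply List.prod_eq_one
    intro x hx
    obtain ⟨i, hi, rfl⟩ := List.mem_map.mp hx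
    have hi' := List.mem_range.mp hi
    rw [hneg i hi' s hs, _root_.zpow_neg, inv_mul_cancel₀ (zpow_ne_zero _ (hc i hi'))]
  have hcomm : ∀ g ∈ D.group K, hB.hprod c * g = g * hB.hprod c := by
    intro g hg
    rw [Cfsg.Agent.Lib.Helper36.group_eq_closure_simple hB hTt] at hg
    induction hg using Subgroup.closure_induction with
    | mem x hx =>
      obtain ⟨i, t, hi, rfl | rfl⟩ := hx
      · have := hB.H_conj_xg' hh hχ ⟨D.simple i, hTt.simple_lt i hi⟩ t
        rw [h1 i hi, one_mul] at this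
        exact mul_inv_eq_iff_eq_mul.mp this
      · have := hB.H_conj_xg' hh hχ ⟨D.neg (D.simple i), hTt.neg_lt (hTt.simple_lt i hi)⟩ t
        have h2 := hinv _ (hTt.simple_lt i hi)
        rw [h1 i hi, mul_one] at h2
        rw [h2, one_mul] at this
        exact mul_inv_eq_iff_eq_mul.mp this
    | one => simp
    | mul x y _ _ hx hy => rw [← mul_assoc, hx, mul_assoc, hy, mul_assoc]
    | inv x _ hx =>
      calc hB.hprod c * x⁻¹ = x⁻¹ * (x * hB.hprod c) * x⁻¹ := by group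
        _ = _ := by rw [← hx]; group
  have key : ∀ s : Fin D.nroots, χ s = 1 := by
    intro s
    have h2 := hB.H_conj_xg' hh hχ s 1
    rw [hcomm _ (hB.xg_mem_group s.2 1), mul_inv_cancel_right] at h2
    have h3 : hB.xg s (χ s * 1 + -1) = 1 := by
      rw [← hB.xg_add, ← h2, ← hB.xg_inv, mul_inv_cancel]
    have h4 := (hB.xg_eq_one_iff s.2 _).1 h3
    linear_combination h4
  apply Units.ext
  rw [hχ, show χ = fun _ => (1 : K) from funext key, dg_one]; rfl

end Base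

namespace FixB

variable {X : BNData D K} (T : FixBN X)

lemma core_le_H {x : GL D.Idx K} (hx : ∀ g ∈ T.G1, g * x * g⁻¹ ∈ D.borelSubgroup K) :
    x ∈ D.diagonalSubgroup K := by
  have hTt := X.hT.tab
  set n := T.cn T.chain with hn0
  have hn : n ∈ D.monomialSubgroup K := cn_mem_N T
  have hxB : x ∈ D.borelSubgroup K := by simpa using hx 1 (one_mem _)
  obtain ⟨u, hu, h, hh, rfl⟩ := X.hB.mem_B_iff.mp hxB
  have hy := hx n (T.cn_mem T.chain_mem)
  have hv : n * u * n⁻¹ ∈ D.negUnipotent K := by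
    apply X.hB.conj_Um_mem_V
    rw [Um_cn T]; exact hu
  have hh' := (X.hB.N_conj_H hTt hn).1 h hh
  have e : n * (u * h) * n⁻¹ = (n * u * n⁻¹) * (n * h * n⁻¹) := by group
  have hy2 : n * (u * h) * n⁻¹ ∈ D.borelSubgroup K ⊓ (D.negUnipotent K ⊔ D.diagonalSubgroup K) :=
    ⟨hy, by rw [e]; exact mul_mem (Subgroup.mem_sup_left hv) (Subgroup.mem_sup_right hh')⟩
  rw [X.hB.B_inf_VH X.hT.toTabs] at hy2
  have := (X.hB.N_conj_H hTt hn).2 _ hy2
  have e2 : n⁻¹ * (n * (u * h) * n⁻¹) * n = u * h := by group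
  rwa [e2] at this

/-- an element all of whose `G¹`-conjugates lie in `B` is trivial. -/
theorem core_eq_one
    (hneg : ∀ i < D.rank, ∀ s < D.nroots, D.cartan i (D.neg s) = - D.cartan i s)
    (hwit : ∀ i < D.rank, ∃ u ∈ D.posUnipotent K ⊓ T.G1, u ∉ X.hB.Up i)
    {x : GL D.Idx K} (hx : ∀ g ∈ T.G1, g * x * g⁻¹ ∈ D.borelSubgroup K) : x = 1 := by
  have hxH := core_le_H T hx
  obtain ⟨χ, _, e⟩ := X.hB.exists_dg hxH
  apply X.hB.eq_one_of_chi_simple X.hT hneg hxH e
  intro i hi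
  obtain ⟨u, ⟨hu, hu1⟩, hu2⟩ := hwit i hi
  apply X.hB.chi_simple_eq_one X.hT hi hxH e hu hu2
  have hz : u * x * u⁻¹ ∈ D.diagonalSubgroup K := by
    apply core_le_H T
    intro g hg
    have := hx (g * u) (mul_mem hg hu1)
    have e3 : g * (u * x * u⁻¹) * g⁻¹ = g * u * x * (g * u)⁻¹ := by group
    rwa [e3]
  have h2 : u * x * u⁻¹ * x⁻¹ ∈ D.posUnipotent K ⊓ D.diagonalSubgroup K := by
    refine ⟨?_, (D.diagonalSubgroup K).mul_mem hz ((D.diagonalSubgroup K).inv_mem hxH)⟩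
    have : u * x * u⁻¹ * x⁻¹ = u * (x * u⁻¹ * x⁻¹) := by group
    rw [this]
    exact (D.posUnipotent K).mul_mem hu (X.hB.H_conj_U hxH ((D.posUnipotent K).inv_mem hu))
  rw [X.hB.U_inf_H X.hT.toTabs, Subgroup.mem_bot] at h2
  calc x * u = (u * x * u⁻¹ * x⁻¹)⁻¹ * (u * x) := by group
    _ = u * x := by rw [h2]; group

/-- the normal core of `B¹` is trivial. -/
theorem normalCore_eq_bot
    (hneg : ∀ i < D.rank, ∀ s < D.nroots, D.cartan i (D.neg s) = - D.cartan i s)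
    (hwit : ∀ i < D.rank, ∃ u ∈ D.posUnipotent K ⊓ T.G1, u ∉ X.hB.Up i) :
    ((D.borelSubgroup K ⊓ T.G1).subgroupOf T.G1).normalCore = ⊥ := by
  rw [eq_bot_iff]
  intro x hx
  rw [Subgroup.mem_bot]
  apply Subtype.ext
  apply core_eq_one T hneg hwit
  intro g hg
  exact (Subgroup.mem_subgroupOf.mp (hx ⟨g, hg⟩)).1

end FixB

end Cfsg.Agent.Lib.Helper18
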