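import Cfsg.Agent.Lib.Helper18.TwistBN

set_option autoImplicit false

/-! The (B,N)-pair of a twisted group: assembly. -/

namespace Cfsg.Agent.Lib.Helper18

open Cfsg.Lie Matrix Cfsg.Agent.Lib.Helper6

variable {D : ChevalleyDatum} {K : Type*} [Field K]

namespace TwistBN

variable {X : BNData D K} (T : TwistBN X)

/-- `B¹`. -/
def B1 : Subgroup ↥T.G1 := (D.borelSubgroup K ⊓ T.G1).subgroupOf T.G1

/-- `N¹`. -/
def N1 : Subgroup ↥T.G1 := (D.monomialSubgroup K ⊓ T.G1).subgroupOf T.G1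

/-- the distinguished generators. -/
def S1 : Set ↥T.G1 := {s | ∃ O ∈ T.orbs, (s : GL D.Idx K) = T.sO O}

lemma mem_B1 (g : ↥T.G1) : g ∈ T.B1 ↔ (g : GL D.Idx K) ∈ D.borelSubgroup K := by
  unfold B1
  rw [Subgroup.mem_subgroupOf, Subgroup.mem_inf]
  exact ⟨fun h => h.1, fun h => ⟨h, g.2⟩⟩

lemma mem_N1 (g : ↥T.G1) : g ∈ T.N1 ↔ (g : GL D.Idx K) ∈ D.monomialSubgroup K := by
  unfold N1
  rw [Subgroup.mem_subgroupOf, Subgroup.mem_inf]
  exact ⟨fun h => h.1, fun h => ⟨h, g.2⟩⟩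

lemma exists_neg_of_orb {O : List ℕ} (hO : O ∈ T.orbs) :
    ∃ r, D.IsPosRoot r ∧ D.IsNegRoot (wAct D O r) := by
  by_contra hcon
  push Not at hcon
  obtain ⟨u, hu, _, hne⟩ := T.orb_ne O hO
  apply hne
  have : X.hB.UmW O = ⊥ := by
    unfold Base.UmW
    rw [Subgroup.closure_eq_bot_iff]
    rintro g ⟨r, t, hr, hn, rfl⟩
    exact absurd hn (hcon r hr)
  rw [this, Subgroup.mem_bot] at hu
  exact hu

open Classical in
theorem N1_gen : ∀ (m : ℕ) (n : ↥T.G1) (hn : (n : GL D.Idx K) ∈ D.monomialSubgroup K),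
    invc (fun r : Fin D.nroots => D.IsPosRoot r) (X.act n hn) = m →
    n ∈ Subgroup.closure T.S1 ⊔ (T.B1 ⊓ T.N1) := by
  intro m
  induction m using Nat.strong_induction_on with
  | _ m ih =>
    intro n hn hm
    have hTt := X.hT.tab
    by_cases hH : (n : GL D.Idx K) ∈ D.diagonalSubgroup K
    · exact (le_sup_right : T.B1 ⊓ T.N1 ≤ _) ⟨(T.mem_B1 n).2 (Base.H_le_B hH), (T.mem_N1 n).2 hn⟩
    · obtain ⟨i, hi⟩ := X.exists_right_descent hn hH
      obtain ⟨O, hO, hiO⟩ := T.cover i i.2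
      have hall := T.neg_all (X.act n hn) (T.act_comm hn (T.G1_fixed _ n.2)) O hO i hiO (X.pI i) rfl hi
      have hnotpos : ∀ {x : ℕ}, D.IsNegRoot x → ¬ D.IsPosRoot x :=
        fun h h' => hTt.not_pos_and_neg h' h
      have hnegof : ∀ {x : ℕ}, x < D.nroots → ¬ D.IsPosRoot x → D.IsNegRoot x := by
        intro x hx h
        rcases hTt.pos_or_neg hx with h' | h'
        · exact absurd h' h
        · exact h'
      have hsN := T.sO_mem_N hO
      have key := invc_mul_inv X.negR (fun r : Fin D.nroots => D.IsPosRoot r)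
        (fun x => hTt.isPos_neg_iff x.2) (X.act n hn) (X.act (T.sO O) hsN)
        (X.act_neg hn) (X.act_neg hsN) (by
          intro r hr hr2
          apply hnotpos
          apply hall r hr
          rw [T.act_sO hO] at hr2
          exact hnegof (hTt.wAct_lt (T.orb_lt O hO) r.2) hr2)
      have hpos : 0 < invc (fun r : Fin D.nroots => D.IsPosRoot r) (X.act (T.sO O) hsN) := by
        obtain ⟨r, hr, hr2⟩ := T.exists_neg_of_orb hO
        unfold invc
        rw [Finset.card_pos]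
        refine ⟨⟨r, hr.1⟩, ?_⟩
        rw [Finset.mem_filter]
        refine ⟨Finset.mem_univ _, hr, ?_⟩
        rw [T.act_sO hO]
        exact hnotpos hr2
      set s : ↥T.G1 := ⟨T.sO O, T.sO_mem O hO⟩ with hs
      have hn' : ((n * s⁻¹ : ↥T.G1) : GL D.Idx K) ∈ D.monomialSubgroup K :=
        mul_mem hn (inv_mem hsN)
      have hact : X.act ((n * s⁻¹ : ↥T.G1) : GL D.Idx K) hn' =
          X.act n hn * (X.act (T.sO O) hsN)⁻¹ := by
        rw [← X.act_inv hsN, ← X.act_mul hn (inv_mem hsN)]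
        rfl
      have h1 := ih (invc (fun r : Fin D.nroots => D.IsPosRoot r)
        (X.act n hn * (X.act (T.sO O) hsN)⁻¹)) (by rw [← hm, ← key]; omega) (n * s⁻¹) hn' (by rw [hact])
      have h2 : s ∈ Subgroup.closure T.S1 ⊔ (T.B1 ⊓ T.N1) :=
        (le_sup_left : Subgroup.closure T.S1 ≤ _) (Subgroup.subset_closure ⟨O, hO, rfl⟩)
      have : n = (n * s⁻¹) * s := by group
      rw [this]
      exact mul_mem h1 h2

/-- the (B,N)-pair. -/
noncomputable def bnPair : Cfsg.BNPair ↥T.G1 where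
  B := T.B1
  N := T.N1
  S := T.S1
  sup_eq_top := by
    rw [eq_top_iff]
    intro g _
    obtain ⟨u₁, h1, g1, n, hn, gn, u₂, h2, g2, e⟩ := T.nf_G1 g.2
    have : g = (⟨u₁, g1⟩ : ↥T.G1) * ⟨n, gn⟩ * ⟨u₂, g2⟩ := Subtype.ext e
    rw [this]
    refine mul_mem (mul_mem ((le_sup_left : T.B1 ≤ _) ?_) ((le_sup_right : T.N1 ≤ _) ?_))
      ((le_sup_left : T.B1 ≤ _) ?_)
    · exact (T.mem_B1 _).2 (Base.U_le_B h1)
    · exact (T.mem_N1 _).2 hn
    · exact (T.mem_B1 _).2 (Base.U_le_B (Um_le_U _ h2))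
  conj_mem := by
    intro n hn t ht
    rw [T.mem_B1]
    have h1 : (t : GL D.Idx K) ∈ D.diagonalSubgroup K := by
      rw [← X.hB.B_inf_N X.hT.toTabs]
      exact ⟨(T.mem_B1 t).1 ht.1, (T.mem_N1 t).1 ht.2⟩
    exact Base.H_le_B ((X.hB.N_conj_H X.hT.tab ((T.mem_N1 n).1 hn)).1 _ h1)
  subset := by
    rintro s ⟨O, hO, e⟩
    show s ∈ T.N1
    rw [T.mem_N1, e]
    exact T.sO_mem_N hO
  sq_mem := by
    rintro s ⟨O, hO, e⟩
    rw [T.mem_B1, Subgroup.coe_mul, e]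
    exact Base.H_le_B (T.sO_sq_mem_H hO)
  inj := by
    rintro s ⟨O, hO, e⟩ s' ⟨O', hO', e'⟩ h
    rw [T.mem_B1, Subgroup.coe_mul, Subgroup.coe_inv, e, e'] at h
    have hH : (T.sO O)⁻¹ * T.sO O' ∈ D.diagonalSubgroup K := by
      rw [← X.hB.B_inf_N X.hT.toTabs]
      exact ⟨h, (D.monomialSubgroup K).mul_mem ((D.monomialSubgroup K).inv_mem (T.sO_mem_N hO))
        (T.sO_mem_N hO')⟩
    have h1 := X.act_eq_of_inv_mul_mem_H (T.sO_mem_N hO) (T.sO_mem_N hO') hH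
    rw [T.act_sO hO, T.act_sO hO'] at h1
    have h2 : O = O' := T.orb_inj O hO O' hO' (fun r hr => by
      have := congrArg (fun π : Equiv.Perm (Fin D.nroots) => ((π ⟨r, hr⟩ : Fin D.nroots) : ℕ)) h1
      exact this)
    subst h2
    exact Subtype.ext (e.trans e'.symm)
  closure_sup := by
    apply le_antisymm
    · apply sup_le
      · rw [Subgroup.closure_le]
        rintro s ⟨O, hO, e⟩
        show s ∈ T.N1
        rw [T.mem_N1, e]
        exact T.sO_mem_N hO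
      · exact inf_le_right
    · intro n hn
      exact T.N1_gen _ n ((T.mem_N1 n).1 hn) rfl
  mul_mem_union := by
    rintro s ⟨O, hO, e⟩ n hn b hb
    rcases T.main_axiom hO ((T.mem_N1 n).1 hn) n.2 ((T.mem_B1 b).1 hb) b.2 with
      ⟨b1, hb1, g1, b2, hb2, g2, e1⟩ | ⟨b1, hb1, g1, b2, hb2, g2, e1⟩
    · left
      rw [DoubleCoset.mem_doubleCoset]
      refine ⟨⟨b1, g1⟩, (T.mem_B1 _).2 hb1, ⟨b2, g2⟩, (T.mem_B1 _).2 hb2, ?_⟩
      apply Subtype.ext
      simp only [Subgroup.coe_mul, e]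
      exact e1
    · right
      rw [DoubleCoset.mem_doubleCoset]
      refine ⟨⟨b1, g1⟩, (T.mem_B1 _).2 hb1, ⟨b2, g2⟩, (T.mem_B1 _).2 hb2, ?_⟩
      apply Subtype.ext
      simp only [Subgroup.coe_mul, e]
      exact e1
  conj_ne := by
    rintro s ⟨O, hO, e⟩ heq
    obtain ⟨u, hu, hfix, hne⟩ := T.orb_ne O hO
    have hu1 : u ∈ T.G1 := T.rank1 O hO u hu hfix
    obtain ⟨h, hh, e'⟩ := T.sO_eq O hO
    have huU : u ∈ Um D K (T.sO O) := by
      rw [e', X.hB.Um_eq_UmW X.hT.toTabs hh (T.orb_lt O hO)]; exact hu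
    have h1 : s * ⟨u, hu1⟩ * s ∈ (T.B1 : Set ↥T.G1) := by
      rw [← heq]
      exact ⟨⟨u, hu1⟩, (T.mem_B1 _).2 (Base.U_le_B (Um_le_U _ huU)), rfl⟩
    have h2 : T.sO O * u * T.sO O ∈ D.borelSubgroup K := by
      have := (T.mem_B1 _).1 h1
      simpa only [Subgroup.coe_mul, e] using this
    have h3 : T.sO O * u * (T.sO O)⁻¹ ∈ D.borelSubgroup K ⊓ D.negUnipotent K := by
      refine ⟨?_, X.hB.conj_Um_mem_V huU⟩
      have : T.sO O * u * (T.sO O)⁻¹ = (T.sO O * u * T.sO O) * (T.sO O * T.sO O)⁻¹ := by group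
      rw [this]
      exact (D.borelSubgroup K).mul_mem h2
        ((D.borelSubgroup K).inv_mem (Base.H_le_B (T.sO_sq_mem_H hO)))
    rw [X.hB.B_inf_V X.hT.toTabs, Subgroup.mem_bot] at h3
    apply hne
    have : u = (T.sO O)⁻¹ * (T.sO O * u * (T.sO O)⁻¹) * T.sO O := by group
    rw [this, h3]; group

end TwistBN

end Cfsg.Agent.Lib.Helper18
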