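import Cfsg.Agent.Lib.Lead.FixTwist
import Cfsg.Agent.Lib.Helper18.TwistBN2

set_option autoImplicit false

/-! A `TwistBN` gives a `FixBN`. -/

namespace Cfsg.Agent.Lib.Helper18

open Cfsg.Lie Matrix Cfsg.Agent.Lib.Helper6 Cfsg.Agent.Lib.Lead.FixTwist

variable {D : ChevalleyDatum} {K : Type*} [Field K] {X : BNData D K}

/-- the `FixBN` of a `TwistBN`. -/
def TwistBN.toFixBN (T : TwistBN X) : FixBN X where
  F := T.fixG
  ρR := T.ρR
  ρR_lt := T.ρR_lt
  nf_fixed := fun h1 hn h2 hfix => T.nf_fixed h1 hn h2 hfix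
  act_comm' := fun hn hfix r => congrArg Fin.val (T.act_comm hn hfix r)
  G1 := T.G1
  G1_fixed := T.G1_fixed
  G1_le := T.G1_le
  orbs := T.orbs
  orb_lt := T.orb_lt
  sO := T.sO
  sO_mem := T.sO_mem
  sO_eq := T.sO_eq
  rank1 := T.rank1
  chain := T.chain
  chain_mem := T.chain_mem
  chain_red := T.chain_red
  chain_long := T.chain_long
  cover := T.cover
  neg_all := by
    intro L hL hc O hO i hi hneg r hr hr2
    have hi' := T.orb_lt O hO i hi
    exact T.neg_all (wPerm X.hT.tab L hL) (fun x => Fin.ext (hc x x.2)) O hO i hi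
      ⟨D.simple i, X.hT.tab.simple_lt i hi'⟩ rfl hneg ⟨r, hr.1⟩ hr hr2
  sub_fixed := T.sub_fixed
  orb_sq := T.orb_sq
  orb_inj := T.orb_inj
  orb_ne := T.orb_ne

end Cfsg.Agent.Lib.Helper18
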