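import Cfsg.Agent.Lib.Helper18.TwistInst

set_option autoImplicit false

/-! `³D₄(q)` as an instance of `CommData`. -/

namespace Cfsg.Agent.Lib.Helper18

open Cfsg.Lie Matrix Cfsg.Agent.Lib.Helper6

variable {K : Type*} [Field K]

theorem memD4 : chevD4 ∈ [chevG2, chevB2, chevD4, chevF4, chevE6, chevE7, chevE8] := by simp

namespace TwD4

theorem s0 : chevD4.simple 0 = d4p1 := by decide +kernel
theorem s1 : chevD4.simple 1 = d4p2 := by decide +kernel
theorem s2 : chevD4.simple 2 = d4p3 := by decide +kernel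
theorem s3 : chevD4.simple 3 = d4p4 := by decide +kernel
theorem n0 : CommData.nsimple chevD4 0 = d4m1 := by decide +kernel
theorem n1 : CommData.nsimple chevD4 1 = d4m2 := by decide +kernel
theorem n2 : CommData.nsimple chevD4 2 = d4m3 := by decide +kernel
theorem n3 : CommData.nsimple chevD4 3 = d4m4 := by decide +kernel
theorem r0 : byte rhoTD4 0 = 2 := by decide +kernel
theorem r1 : byte rhoTD4 1 = 1 := by decide +kernel
theorem r2 : byte rhoTD4 2 = 3 := by decide +kernel
theorem r3 : byte rhoTD4 3 = 0 := by decide +kernel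

variable {X : BNData chevD4 K}

theorem genSet_eq (T : CommData X) (hO : T.orbs = orbsD4) (hρ : T.ρ = byte rhoTD4) {q : ℕ}
    (hf : ∀ t, T.f t = t ^ q) (hK : ∀ t : K, (t ^ (q ^ 2)) ^ q = t) :
    T.genSet = {g : GL chevD4.Idx K |
      ∃ w ∈ d4Words K q, (g : Matrix chevD4.Idx chevD4.Idx K) = chevD4.wordMat K w} := by
  ext g
  constructor
  · rintro ⟨O, hO', t, ht, hg⟩
    rw [hO] at hO'
    simp only [orbsD4, List.mem_cons, List.not_mem_nil, or_false] at hO'
    have hg' : (g : Matrix chevD4.Idx chevD4.Idx K)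
          = chevD4.wordMat K (O.map fun j => (chevD4.simple j, t j)) ∨
        (g : Matrix chevD4.Idx chevD4.Idx K)
          = chevD4.wordMat K (O.map fun j => (CommData.nsimple chevD4 j, t j)) := by
      rcases hg with rfl | rfl
      · exact Or.inl (X.hB.coe_yl _ _ _)
      · exact Or.inr (X.hB.coe_yl _ _ _)
    unfold CommData.Compat at ht
    simp only [hρ, hf] at ht
    rcases hO' with rfl | rfl
    · have h1 := ht 1 (by simp)
      rw [r1] at h1
      simp only [List.map_cons, List.map_nil, s1, n1] at hg'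
      rcases hg' with h | h
      · exact ⟨_, Or.inl ⟨t 1, h1.symm, d4p2, by simp, rfl⟩, h⟩
      · exact ⟨_, Or.inl ⟨t 1, h1.symm, d4m2, by simp, rfl⟩, h⟩
    · have h1 := ht 0 (by simp)
      have h2 := ht 2 (by simp)
      rw [r0] at h1
      rw [r2, h1, ← pow_mul, ← sq] at h2
      simp only [List.map_cons, List.map_nil, s0, s2, s3, n0, n2, n3, h1, h2] at hg'
      rcases hg' with h | h
      · exact ⟨_, Or.inr ⟨t 0, (d4p1, d4p3, d4p4), by simp, rfl⟩, h⟩
      · exact ⟨_, Or.inr ⟨t 0, (d4m1, d4m3, d4m4), by simp, rfl⟩, h⟩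
  · rintro ⟨w, hw, hg⟩
    have key1 : ∀ (O : List ℕ) (t : ℕ → K), O ∈ orbsD4 → (∀ j ∈ O, t (byte rhoTD4 j) = t j ^ q) →
        (g : Matrix chevD4.Idx chevD4.Idx K)
          = chevD4.wordMat K (O.map fun j => (chevD4.simple j, t j)) → g ∈ T.genSet := by
      intro O t h1 h2 h3
      refine ⟨O, hO ▸ h1, t, fun j hj => by rw [hρ, hf]; exact h2 j hj, Or.inl (Units.ext ?_)⟩
      rw [h3, X.hB.coe_yl]
    have key2 : ∀ (O : List ℕ) (t : ℕ → K), O ∈ orbsD4 → (∀ j ∈ O, t (byte rhoTD4 j) = t j ^ q) →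
        (g : Matrix chevD4.Idx chevD4.Idx K)
          = chevD4.wordMat K (O.map fun j => (CommData.nsimple chevD4 j, t j)) → g ∈ T.genSet := by
      intro O t h1 h2 h3
      refine ⟨O, hO ▸ h1, t, fun j hj => by rw [hρ, hf]; exact h2 j hj, Or.inr (Units.ext ?_)⟩
      rw [h3, X.hB.coe_yl]
    rcases hw with ⟨t, ht, r, hr, rfl⟩ | ⟨t, rs, hrs, rfl⟩
    · simp only [List.mem_cons, List.not_mem_nil, or_false] at hr
      rcases hr with rfl | rfl
      · exact key1 [1] (fun _ => t) (by simp [orbsD4]) (fun _ _ => ht.symm)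
          (by simpa only [List.map_cons, List.map_nil, s1] using hg)
      · exact key2 [1] (fun _ => t) (by simp [orbsD4]) (fun _ _ => ht.symm)
          (by simpa only [List.map_cons, List.map_nil, n1] using hg)
    · simp only [List.mem_cons, List.not_mem_nil, or_false] at hrs
      have c : ∀ j ∈ [0, 2, 3],
          (fun j => if j = 0 then t else if j = 2 then t ^ q else t ^ (q ^ 2)) (byte rhoTD4 j)
          = (fun j => if j = 0 then t else if j = 2 then t ^ q else t ^ (q ^ 2)) j ^ q := by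
        intro j hj
        simp only [List.mem_cons, List.not_mem_nil, or_false] at hj
        rcases hj with rfl | rfl | rfl
        · simp [r0]
        · simp [r2, ← pow_mul, sq]
        · simp [r3, hK]
      rcases hrs with rfl | rfl
      · refine key1 [0, 2, 3] (fun j => if j = 0 then t else if j = 2 then t ^ q else t ^ (q ^ 2))
          (by simp [orbsD4]) c ?_
        rw [hg]
        simp only [List.map_cons, List.map_nil, s0, s2, s3]
        rfl
      · refine key2 [0, 2, 3] (fun j => if j = 0 then t else if j = 2 then t ^ q else t ^ (q ^ 2))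
          (by simp [orbsD4]) c ?_
        rw [hg]
        simp only [List.map_cons, List.map_nil, n0, n2, n3]
        rfl

end TwD4

/-- `³D₄(q)` is the group of a `CommData`. -/
theorem exists_commData_D4 [Fintype K] {q : ℕ} (hq : IsPrimePow q) (hK : Fintype.card K = q ^ 3) :
    ∃ T : CommData (bnData_of_mem K memD4), T.G1 = twistedD4 K q ∧ (∀ t, T.f t = t ^ q) ∧
      T.orbs = orbsD4 ∧ T.ρ = byte rhoTD4 ∧ T.ρR = byte rhoRTD4 ∧ T.chain = chainD4t := by
  obtain ⟨f, hf⟩ := exists_frob hq hK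
  obtain ⟨τ, hτ⟩ := exists_tau (bnData_of_mem K memD4).hB tabD4 Cfsg.Agent.Lib.Helper36.agreeD4
    Cfsg.Agent.S1081.gt1 Cfsg.Agent.S1081.gi1 [2, 1, 3, 0] Cfsg.Agent.S1081.b1 Cfsg.Agent.S1081.b1'
    Cfsg.Agent.S1081.i1 Cfsg.Agent.S1081.a1 (by decide) f
  have hL : ∀ i < chevD4.rank, [2, 1, 3, 0].getD i 0 = byte rhoTD4 i := by decide +kernel
  refine ⟨CommData.ofTab _ τ f twTabD4 commD4 (fun i hi t => by rw [← hL i hi]; exact hτ i hi t),
    ?_, hf, rfl, rfl, rfl, rfl⟩
  unfold CommData.G1 twistedD4 ChevalleyDatum.genSubgroup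
  rw [TwD4.genSet_eq _ rfl rfl hf]
  intro t
  rw [← pow_mul, ← pow_succ, ← hK, FiniteField.pow_card]

end Cfsg.Agent.Lib.Helper18
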