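import Cfsg.Agent.Lib.Helper18.FixCoreB
import Cfsg.Agent.Lib.Helper18.FixOfTwist
import Cfsg.Agent.Lib.Helper18.TwistE6
import Cfsg.Agent.Lib.Helper18.TwistD4
import Cfsg.Agent.Lib.Helper36.ChevCore

set_option autoImplicit false

/-! The normal core of `B¹` in `²E₆(q)`, `³D₄(q)`. -/

namespace Cfsg.Agent.Lib.Helper18

open Cfsg.Lie Matrix Cfsg.Agent.Lib.Helper6 Cfsg.Agent.Lib.Lead.FixTwist

variable {D : ChevalleyDatum} {K : Type*} [Field K]

theorem cartan_neg_of_mem (hD : D ∈ [chevG2, chevB2, chevD4, chevF4, chevE6, chevE7, chevE8]) :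
    ∀ i < D.rank, ∀ s < D.nroots, D.cartan i (D.neg s) = - D.cartan i s := by
  obtain ⟨T, W, hc⟩ := Cfsg.Agent.Lib.Helper36.exists_checks D hD
  exact fun i hi s hs => hc.cartan_neg i hi s hs

lemma coefW_map_of_not_mem (hT : Tab D) {i : ℕ} (hi : i < D.rank) (g : ℕ → K) (O : List ℕ)
    (hO : ∀ j ∈ O, j < D.rank) (h : i ∉ O) :
    Base.coefW D i (O.map fun j => (D.simple j, g j)) = 0 := by
  induction O with
  | nil => simp [Base.coefW]
  | cons a O ih =>
    have h1 : Base.coefW D i ((a :: O).map fun j => (D.simple j, g j)) =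
        (if D.simple a = D.simple i then g a else 0) +
          Base.coefW D i (O.map fun j => (D.simple j, g j)) := by
      simp [Base.coefW]
    rw [h1, ih (fun j hj => hO j (by simp [hj])) (fun h' => h (by simp [h'])), add_zero, if_neg]
    intro e
    exact h (by simp [hT.simple_inj _ _ (hO a (by simp)) hi e])

lemma coefW_map (hT : Tab D) {i : ℕ} (g : ℕ → K) (O : List ℕ)
    (hO : ∀ j ∈ O, j < D.rank) (hnd : O.Nodup) (h : i ∈ O) :
    Base.coefW D i (O.map fun j => (D.simple j, g j)) = g i := by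
  induction O with
  | nil => simp at h
  | cons a O ih =>
    have h1 : Base.coefW D i ((a :: O).map fun j => (D.simple j, g j)) =
        (if D.simple a = D.simple i then g a else 0) +
          Base.coefW D i (O.map fun j => (D.simple j, g j)) := by
      simp [Base.coefW]
    have hnd' := List.nodup_cons.mp hnd
    have hO' : ∀ j ∈ O, j < D.rank := fun j hj => hO j (by simp [hj])
    rw [h1]
    rcases List.mem_cons.mp h with rfl | h'
    · rw [if_pos rfl, coefW_map_of_not_mem hT (hO i (by simp)) g O hO' hnd'.1, add_zero]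
    · rw [ih hO' hnd'.2 h', if_neg, zero_add]
      intro e
      have := hT.simple_inj _ _ (hO a (by simp)) (hO' i h') e
      exact hnd'.1 (this ▸ h')

namespace CommData

variable {X : BNData D K} (T : CommData X)

lemma exists_wit : ∀ i < D.rank, ∃ u ∈ D.posUnipotent K ⊓ T.G1, u ∉ X.hB.Up i := by
  intro i hi
  obtain ⟨O, hO, hiO⟩ := T.cover i hi
  have hlt := (T.orth O hO).lt
  have e : X.hB.yl D.simple O (fun _ => 1) = X.hB.wg (O.map fun j => (D.simple j, (1 : K))) := by
    unfold Base.yl Base.wg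
    rw [List.map_map]
    rfl
  have hpos : ∀ p ∈ O.map (fun j => (D.simple j, (1 : K))), D.IsPosRoot p.1 := by
    intro p hp
    obtain ⟨j, hj, rfl⟩ := List.mem_map.mp hp
    exact X.hT.tab.isPos_simple (hlt j hj)
  refine ⟨X.hB.yl D.simple O (fun _ => 1), ⟨?_, T.yl_pos_mem hO (T.compat_const O (map_one _))⟩, ?_⟩
  · rw [e]; exact X.hB.wg_mem_U _ hpos
  · rw [e]
    apply X.hB.wg_not_mem_Up X.hT hi _ hpos
    rw [coefW_map X.hT.tab (fun _ => (1 : K)) O hlt (T.orth O hO).nodup hiO]
    exact one_ne_zero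

theorem normalCore_eq_bot
    (hneg : ∀ i < D.rank, ∀ s < D.nroots, D.cartan i (D.neg s) = - D.cartan i s) :
    ((D.borelSubgroup K ⊓ T.G1).subgroupOf T.G1).normalCore = ⊥ :=
  FixB.normalCore_eq_bot T.toTwistBN.toFixBN hneg T.exists_wit

end CommData

theorem normalCore_E6 {K : Type*} [Field K] [Fintype K] {q : ℕ} (hq : IsPrimePow q)
    (hK : Fintype.card K = q ^ 2) :
    ((chevE6.borelSubgroup K ⊓ twistedE6 K q).subgroupOf (twistedE6 K q)).normalCore = ⊥ := by
  obtain ⟨T, hG, -⟩ := exists_commData_E6 hq hK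
  rw [← hG]
  exact T.normalCore_eq_bot (cartan_neg_of_mem (by simp))

theorem normalCore_D4 {K : Type*} [Field K] [Fintype K] {q : ℕ} (hq : IsPrimePow q)
    (hK : Fintype.card K = q ^ 3) :
    ((chevD4.borelSubgroup K ⊓ twistedD4 K q).subgroupOf (twistedD4 K q)).normalCore = ⊥ := by
  obtain ⟨T, hG, -⟩ := exists_commData_D4 hq hK
  rw [← hG]
  exact T.normalCore_eq_bot (cartan_neg_of_mem (by simp))

end Cfsg.Agent.Lib.Helper18
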