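import Cfsg.Agent.Lib.Helper18.CommCount

set_option autoImplicit false

/-! The order of a twisted group: `|G¹| = |U¹| |H¹| Σ_{w ∈ W¹} q^{l(w)}`. -/

namespace Cfsg.Agent.Lib.Helper18

open Cfsg.Lie Matrix Cfsg.Agent.Lib.Helper6

open Classical in
/-- summing a function of the image under a homomorphism. -/
theorem sum_comp_hom {A B : Type*} [Group A] [Group B] [Fintype A] [Fintype B] (φ : A →* B)
    (F : B → ℕ) :
    ∑ a, F (φ a) = Nat.card φ.ker * ∑ b ∈ Finset.univ.filter (fun b => b ∈ φ.range), F b := by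
  have h2 : ∑ a, F (φ a) = ∑ b ∈ Finset.univ.filter (fun b : B => b ∈ φ.range),
      ∑ a ∈ Finset.univ.filter (fun a => φ a = b), F (φ a) :=
    (Finset.sum_fiberwise_of_maps_to (fun a _ => by simp) _).symm
  rw [h2, Finset.mul_sum]
  apply Finset.sum_congr rfl
  intro b hb
  have hb' : b ∈ Set.range φ := by simpa using hb
  rw [Finset.sum_congr rfl (g := fun _ => F b)
    (fun a ha => by rw [(Finset.mem_filter.mp ha).2]), Finset.sum_const, smul_eq_mul]
  congr 1
  rw [MonoidHom.card_fiber_eq_of_mem_range φ hb' ⟨1, map_one _⟩, Nat.card_eq_fintype_card,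
    Fintype.card_subtype]
  congr 1
  ext a
  simp [MonoidHom.mem_ker]

variable {D : ChevalleyDatum} {K : Type*} [Field K]

namespace TwistBN

variable {X : BNData D K} (T : TwistBN X)

/-- induction on `N¹`. -/
theorem N1_induction (P : GL D.Idx K → Prop)
    (hH : ∀ h, h ∈ D.diagonalSubgroup K → h ∈ T.G1 → P h)
    (hstep : ∀ n', n' ∈ D.monomialSubgroup K → n' ∈ T.G1 → ∀ O ∈ T.orbs, P n' → P (n' * T.sO O)) :
    ∀ n, n ∈ D.monomialSubgroup K → n ∈ T.G1 → P n := by
  classical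
  have main : ∀ (m : ℕ) (n : GL D.Idx K) (hn : n ∈ D.monomialSubgroup K), n ∈ T.G1 →
      invc (fun r : Fin D.nroots => D.IsPosRoot r) (X.act n hn) = m → P n := by
    intro m
    induction m using Nat.strong_induction_on with
    | _ m ih =>
      intro n hn hn1 hm
      have hTt := X.hT.tab
      have hnotpos : ∀ {x : ℕ}, D.IsNegRoot x → ¬ D.IsPosRoot x :=
        fun h h' => hTt.not_pos_and_neg h' h
      have hnegof : ∀ {x : ℕ}, x < D.nroots → ¬ D.IsPosRoot x → D.IsNegRoot x := by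
        intro x hx h
        rcases hTt.pos_or_neg hx with h' | h'
        · exact absurd h' h
        · exact h'
      by_cases hHn : n ∈ D.diagonalSubgroup K
      · exact hH n hHn hn1
      · obtain ⟨i, hi⟩ := X.exists_right_descent hn hHn
        obtain ⟨O, hO, hiO⟩ := T.cover i i.2
        have hall := T.neg_all (X.act n hn) (T.act_comm hn (T.G1_fixed _ hn1)) O hO i hiO (X.pI i) rfl hi
        have hsN := T.sO_mem_N hO
        have hall' : ∀ r : Fin D.nroots, D.IsPosRoot r →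
            ¬ D.IsPosRoot (X.act (T.sO O) hsN r : Fin D.nroots) →
            ¬ D.IsPosRoot (X.act n hn r : Fin D.nroots) := by
          intro r hr hr2
          apply hnotpos
          apply hall r hr
          rw [T.act_sO hO] at hr2
          exact hnegof (hTt.wAct_lt (T.orb_lt O hO) r.2) hr2
        have key := invc_mul_inv X.negR (fun r : Fin D.nroots => D.IsPosRoot r)
          (fun x => hTt.isPos_neg_iff x.2) (X.act n hn) (X.act (T.sO O) hsN)
          (X.act_neg hn) (X.act_neg hsN) hall'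
        have hpos : 0 < invc (fun r : Fin D.nroots => D.IsPosRoot r) (X.act (T.sO O) hsN) := by
          obtain ⟨r, hr, hr2⟩ := T.exists_neg_of_orb hO
          unfold invc
          rw [Finset.card_pos]
          refine ⟨⟨r, hr.1⟩, ?_⟩
          rw [Finset.mem_filter]
          refine ⟨Finset.mem_univ _, hr, ?_⟩
          rw [T.act_sO hO]
          exact hnotpos hr2
        have hn' : n * (T.sO O)⁻¹ ∈ D.monomialSubgroup K := mul_mem hn (inv_mem hsN)
        have hn1' : n * (T.sO O)⁻¹ ∈ T.G1 := mul_mem hn1 (inv_mem (T.sO_mem O hO))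
        have hact : X.act (n * (T.sO O)⁻¹) hn' = X.act n hn * (X.act (T.sO O) hsN)⁻¹ := by
          rw [← X.act_inv hsN, ← X.act_mul hn (inv_mem hsN)]
        have h1 := ih (invc (fun r : Fin D.nroots => D.IsPosRoot r)
          (X.act n hn * (X.act (T.sO O) hsN)⁻¹)) (by rw [← hm, ← key]; omega) (n * (T.sO O)⁻¹) hn'
          hn1' (by rw [hact])
        have e : n * (T.sO O)⁻¹ * T.sO O = n := by group
        rw [← e]
        exact hstep _ hn' hn1' O hO h1
  intro n hn hn1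
  exact main _ n hn hn1 rfl

/-- `N¹` as a subgroup of `GL`. -/
def N1s : Subgroup (GL D.Idx K) := D.monomialSubgroup K ⊓ T.G1

/-- the action of `N¹` on the roots. -/
noncomputable def actH : ↥T.N1s →* Equiv.Perm (Fin D.nroots) where
  toFun n := X.act n.1 n.2.1
  map_one' := (X.act_eq_one_iff _).2 (one_mem _)
  map_mul' a b := X.act_mul a.2.1 b.2.1

/-- the generators of `W¹`. -/
def W1gens : Set (Equiv.Perm (Fin D.nroots)) :=
  {π | ∃ O, ∃ hO : O ∈ T.orbs, π = wPerm X.hT.tab O (T.orb_lt O hO)}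

theorem range_actH : T.actH.range = Subgroup.closure T.W1gens := by
  apply le_antisymm
  · rintro _ ⟨⟨n, hn, hn1⟩, rfl⟩
    show X.act n hn ∈ _
    have := T.N1_induction (fun n => ∀ hn : n ∈ D.monomialSubgroup K,
      X.act n hn ∈ Subgroup.closure T.W1gens) (by
        intro h hh _ hn
        rw [(X.act_eq_one_iff hn).2 hh]
        exact one_mem _) (by
        intro n' hn' _ O hO ih hn
        rw [X.act_mul hn' (T.sO_mem_N hO), T.act_sO hO]
        exact mul_mem (ih hn') (Subgroup.subset_closure ⟨O, hO, rfl⟩)) n hn hn1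
    exact this hn
  · rw [Subgroup.closure_le]
    rintro _ ⟨O, hO, rfl⟩
    refine ⟨⟨T.sO O, T.sO_mem_N hO, T.sO_mem O hO⟩, ?_⟩
    exact T.act_sO hO

lemma card_ker_actH : Nat.card T.actH.ker = Nat.card ↥(D.diagonalSubgroup K ⊓ T.G1) := by
  apply Nat.card_congr
  refine ⟨fun x => ⟨x.1.1, (X.act_eq_one_iff x.1.2.1).1 x.2, x.1.2.2⟩,
    fun y => ⟨⟨y.1, Base.H_le_N y.2.1, y.2.2⟩, (X.act_eq_one_iff _).2 y.2.1⟩, fun _ => rfl, fun _ => rfl⟩

/-- the decomposition of `G¹`. -/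
noncomputable def nfEquiv :
    (Σ n : ↥T.N1s, ↥(D.posUnipotent K ⊓ T.G1) × ↥(Um D K n.1 ⊓ T.G1)) ≃ ↥T.G1 :=
  Equiv.ofBijective (fun p => ⟨p.2.1.1 * p.1.1 * p.2.2.1,
    mul_mem (mul_mem p.2.1.2.2 p.1.2.2) p.2.2.2.2⟩) (by
    constructor
    · rintro ⟨⟨n, hn, hn1⟩, ⟨u, hu, hu1⟩, ⟨v, hv, hv1⟩⟩ ⟨⟨n', hn', hn1'⟩, ⟨u', hu', hu1'⟩, ⟨v', hv', hv1'⟩⟩ e
      have e' : u * n * v = u' * n' * v' := congrArg Subtype.val e
      obtain ⟨rfl, rfl, rfl⟩ := X.nf_unique hu hu' hn hn' hv hv' e'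
      rfl
    · rintro ⟨g, hg⟩
      obtain ⟨u₁, h1, g1, n, hn, gn, u₂, h2, g2, e⟩ := T.nf_G1 hg
      exact ⟨⟨⟨n, hn, gn⟩, ⟨u₁, h1, g1⟩, ⟨u₂, h2, g2⟩⟩, Subtype.ext e.symm⟩)

open Classical in
/-- the order of `G¹`. -/
theorem card_G1 [Finite K] {q : ℕ}
    (hq : ∀ O (hO : O ∈ T.orbs), Nat.card ↥(Um D K (T.sO O) ⊓ T.fixG) =
      q ^ invc (fun r : Fin D.nroots => D.IsPosRoot r) (X.act (T.sO O) (T.sO_mem_N hO))) :
    Nat.card ↥T.G1 = q ^ (D.nroots / 2) * Nat.card ↥(D.diagonalSubgroup K ⊓ T.G1) *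
      ∑ π ∈ Finset.univ.filter (fun π : Equiv.Perm (Fin D.nroots) =>
        π ∈ Subgroup.closure T.W1gens), q ^ invc (fun r : Fin D.nroots => D.IsPosRoot r) π := by
  have : Fintype K := Fintype.ofFinite K
  have : Fintype ↥T.N1s := Fintype.ofFinite _
  rw [← Nat.card_congr T.nfEquiv, Nat.card_sigma]
  have h1 : ∀ n : ↥T.N1s, Nat.card (↥(D.posUnipotent K ⊓ T.G1) × ↥(Um D K n.1 ⊓ T.G1)) =
      q ^ (D.nroots / 2) * q ^ invc (fun r : Fin D.nroots => D.IsPosRoot r) (T.actH n) := by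
    intro n
    rw [Nat.card_prod, T.card_U1 hq, T.Um_inf_G1, T.card_Um_fix hq _ n.1 n.2.1 n.2.2 rfl]
    rfl
  simp_rw [h1]
  rw [← Finset.mul_sum, sum_comp_hom T.actH (fun π => q ^ invc (fun r : Fin D.nroots => D.IsPosRoot r) π),
    T.card_ker_actH, mul_assoc]
  congr 2
  apply Finset.sum_congr _ (fun _ _ => rfl)
  ext π
  simp only [Finset.mem_filter, Finset.mem_univ, true_and, T.range_actH]

end TwistBN

end Cfsg.Agent.Lib.Helper18
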