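import Cfsg.Agent.Lib.Lead.FixTwist
import Cfsg.Agent.Lib.Helper18.TwistOrder

set_option autoImplicit false

/-! The structure of `N¹` and the order of a twisted group, over the interface `FixBN` (lead's port of `TwistBN`). -/

namespace Cfsg.Agent.Lib.Helper18.FixB

open Cfsg.Lie Matrix Cfsg.Agent.Lib.Helper6 Cfsg.Agent.Lib.Helper18 Cfsg.Agent.Lib.Lead.FixTwist

variable {D : ChevalleyDatum} {K : Type*} [Field K] {X : BNData D K} (T : FixBN X)

/-- induction on `N¹`. -/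
theorem N1_induction (P : GL D.Idx K → Prop)
    (hH : ∀ h, h ∈ D.diagonalSubgroup K → h ∈ T.G1 → P h)
    (hstep : ∀ n', n' ∈ D.monomialSubgroup K → n' ∈ T.G1 → ∀ O ∈ T.orbs, P n' → P (n' * T.sO O)) :
    ∀ n, n ∈ D.monomialSubgroup K → n ∈ T.G1 → P n := by
  classical
  have main : ∀ (m : ℕ) (n : GL D.Idx K) (hn : n ∈ D.monomialSubgroup K), n ∈ T.G1 →
      invc (fun r : Fin D.nroots => D.IsPosRoot r) (X.act n hn) = m → P n := by
    intro m
    induction m using Nat.strong_induction_on with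
    | _ m ih =>
      intro n hn hn1 hm
      have hTt := X.hT.tab
      have hnotpos : ∀ {x : ℕ}, D.IsNegRoot x → ¬ D.IsPosRoot x :=
        fun h h' => hTt.not_pos_and_neg h' h
      have hnegof : ∀ {x : ℕ}, x < D.nroots → ¬ D.IsPosRoot x → D.IsNegRoot x := by
        intro x hx h
        rcases hTt.pos_or_neg hx with h' | h'
        · exact absurd h' h
        · exact h'
      by_cases hHn : n ∈ D.diagonalSubgroup K
      · exact hH n hHn hn1
      · obtain ⟨i, hi⟩ := X.exists_right_descent hn hHn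
        obtain ⟨O, hO, hiO⟩ := T.cover i i.2
        have hall := T.neg_all' hn (T.G1_fixed _ hn1) O hO i hiO (X.pI i) rfl hi
        have hsN := T.sO_mem_N hO
        have hall' : ∀ r : Fin D.nroots, D.IsPosRoot r →
            ¬ D.IsPosRoot (X.act (T.sO O) hsN r : Fin D.nroots) →
            ¬ D.IsPosRoot (X.act n hn r : Fin D.nroots) := by
          intro r hr hr2
          apply hnotpos
          apply hall r hr
          rw [T.act_sO hO] at hr2
          exact hnegof (hTt.wAct_lt (T.orb_lt O hO) r.2) hr2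
        have key := invc_mul_inv X.negR (fun r : Fin D.nroots => D.IsPosRoot r)
          (fun x => hTt.isPos_neg_iff x.2) (X.act n hn) (X.act (T.sO O) hsN)
          (X.act_neg hn) (X.act_neg hsN) hall'
        have hpos : 0 < invc (fun r : Fin D.nroots => D.IsPosRoot r) (X.act (T.sO O) hsN) := by
          obtain ⟨r, hr, hr2⟩ := T.exists_neg_of_orb hO
          unfold invc
          rw [Finset.card_pos]
          refine ⟨⟨r, hr.1⟩, ?_⟩
          rw [Finset.mem_filter]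
          refine ⟨Finset.mem_univ _, hr, ?_⟩
          rw [T.act_sO hO]
          exact hnotpos hr2
        have hn' : n * (T.sO O)⁻¹ ∈ D.monomialSubgroup K := mul_mem hn (inv_mem hsN)
        have hn1' : n * (T.sO O)⁻¹ ∈ T.G1 := mul_mem hn1 (inv_mem (T.sO_mem O hO))
        have hact : X.act (n * (T.sO O)⁻¹) hn' = X.act n hn * (X.act (T.sO O) hsN)⁻¹ := by
          rw [← X.act_inv hsN, ← X.act_mul hn (inv_mem hsN)]
        have h1 := ih (invc (fun r : Fin D.nroots => D.IsPosRoot r)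
          (X.act n hn * (X.act (T.sO O) hsN)⁻¹)) (by rw [← hm, ← key]; omega) (n * (T.sO O)⁻¹) hn'
          hn1' (by rw [hact])
        have e : n * (T.sO O)⁻¹ * T.sO O = n := by group
        rw [← e]
        exact hstep _ hn' hn1' O hO h1
  intro n hn hn1
  exact main _ n hn hn1 rfl

/-- `N¹` as a subgroup of `GL`. -/
abbrev N1s : Subgroup (GL D.Idx K) := D.monomialSubgroup K ⊓ T.G1

/-- the action of `N¹` on the roots. -/
noncomputable def actH : ↥(N1s T) →* Equiv.Perm (Fin D.nroots) where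
  toFun n := X.act n.1 n.2.1
  map_one' := (X.act_eq_one_iff _).2 (one_mem _)
  map_mul' a b := X.act_mul a.2.1 b.2.1

/-- the generators of `W¹`. -/
def W1gens : Set (Equiv.Perm (Fin D.nroots)) :=
  {π | ∃ O, ∃ hO : O ∈ T.orbs, π = wPerm X.hT.tab O (T.orb_lt O hO)}

theorem range_actH : (actH T).range = Subgroup.closure (W1gens T) := by
  apply le_antisymm
  · rintro _ ⟨⟨n, hn, hn1⟩, rfl⟩
    show X.act n hn ∈ _
    have := N1_induction T (fun n => ∀ hn : n ∈ D.monomialSubgroup K,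
      X.act n hn ∈ Subgroup.closure (W1gens T)) (by
        intro h hh _ hn
        rw [(X.act_eq_one_iff hn).2 hh]
        exact one_mem _) (by
        intro n' hn' _ O hO ih hn
        rw [X.act_mul hn' (T.sO_mem_N hO), T.act_sO hO]
        exact mul_mem (ih hn') (Subgroup.subset_closure ⟨O, hO, rfl⟩)) n hn hn1
    exact this hn
  · rw [Subgroup.closure_le]
    rintro _ ⟨O, hO, rfl⟩
    refine ⟨⟨T.sO O, T.sO_mem_N hO, T.sO_mem O hO⟩, ?_⟩
    exact T.act_sO hO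

/-- the kernel of the action of `N¹` on the roots is `H¹`. -/
theorem ker_actH : (actH T).ker = (D.diagonalSubgroup K ⊓ T.G1).subgroupOf (N1s T) := by
  ext n
  rw [MonoidHom.mem_ker, Subgroup.mem_subgroupOf]
  show X.act n.1 n.2.1 = 1 ↔ _
  rw [X.act_eq_one_iff]
  exact ⟨fun h => ⟨h, n.2.2⟩, fun h => h.1⟩

lemma card_ker_actH : Nat.card (actH T).ker = Nat.card ↥(D.diagonalSubgroup K ⊓ T.G1) := by
  apply Nat.card_congr
  refine ⟨fun x => ⟨x.1.1, (X.act_eq_one_iff x.1.2.1).1 x.2, x.1.2.2⟩,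
    fun y => ⟨⟨y.1, Base.H_le_N y.2.1, y.2.2⟩, (X.act_eq_one_iff _).2 y.2.1⟩, fun _ => rfl, fun _ => rfl⟩

/-- a surjection of `N¹` onto any group isomorphic to `W¹`, with kernel `H¹`. -/
theorem exists_hom_of_equiv {W : Type*} [Group W] (e : ↥(Subgroup.closure (W1gens T)) ≃* W) :
    ∃ φ : ↥(D.monomialSubgroup K ⊓ T.G1) →* W, Function.Surjective φ ∧
      φ.ker = (D.diagonalSubgroup K ⊓ T.G1).subgroupOf (D.monomialSubgroup K ⊓ T.G1) := by
  have hr := range_actH T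
  let ψ : ↥(N1s T) →* ↥(Subgroup.closure (W1gens T)) :=
    (actH T).codRestrict _ (fun n => hr ▸ ⟨n, rfl⟩)
  refine ⟨e.toMonoidHom.comp ψ, ?_, ?_⟩
  · apply e.surjective.comp
    rintro ⟨π, hπ⟩
    rw [← hr] at hπ
    obtain ⟨n, rfl⟩ := hπ
    exact ⟨n, rfl⟩
  · rw [← ker_actH T]
    ext n
    rw [MonoidHom.mem_ker, MonoidHom.mem_ker, MonoidHom.comp_apply]
    show e (ψ n) = 1 ↔ _
    rw [map_eq_one_iff e e.injective]
    exact ⟨fun h => congrArg Subtype.val h, fun h => Subtype.ext h⟩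

lemma U_inf_G1 : D.posUnipotent K ⊓ T.G1 = D.posUnipotent K ⊓ T.F := by
  ext g
  exact ⟨fun h => ⟨h.1, T.G1_fixed g h.2⟩, fun h => ⟨h.1, T.U_fixed_le h.1 h.2⟩⟩

lemma Um_inf_G1 (n : GL D.Idx K) : Um D K n ⊓ T.G1 = Um D K n ⊓ T.F := by
  ext g
  exact ⟨fun h => ⟨h.1, T.G1_fixed g h.2⟩, fun h => ⟨h.1, T.U_fixed_le (Um_le_U n h.1) h.2⟩⟩

lemma cn_mem_N : T.cn T.chain ∈ D.monomialSubgroup K := by
  obtain ⟨h, hh, e⟩ := T.cn_eq T.chain_mem
  rw [e]
  exact mul_mem (Base.H_le_N hh) (X.hB.nW_mem X.hT.tab (T.cw_lt T.chain_mem))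

lemma Um_cn : Um D K (T.cn T.chain) = D.posUnipotent K := by
  apply le_antisymm (Um_le_U _)
  obtain ⟨h, hh, e⟩ := T.cn_eq T.chain_mem
  rw [e, X.hB.Um_eq_UmW X.hT.toTabs hh (T.cw_lt T.chain_mem), X.hB.posUnipotent_eq]
  unfold Base.UmW
  apply Subgroup.closure_mono
  rintro g ⟨r, t, hr, rfl⟩
  exact ⟨r, t, hr, T.chain_long.pos r hr, rfl⟩

open Classical in
lemma invc_cn : invc (fun r : Fin D.nroots => D.IsPosRoot r) (X.act (T.cn T.chain) (cn_mem_N T))
    = D.nroots / 2 := by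
  have hTt := X.hT.tab
  obtain ⟨h, hh, e⟩ := T.cn_eq T.chain_mem
  rw [X.act_congr e, X.act_hnW hh (T.cw_lt T.chain_mem)]
  unfold invc
  have h1 : (Finset.univ.filter fun r : Fin D.nroots => D.IsPosRoot r ∧
      ¬ D.IsPosRoot (wPerm hTt (cw T.chain) (T.cw_lt T.chain_mem) r : Fin D.nroots)) =
      Finset.univ \ (Finset.univ.filter fun r : Fin D.nroots => (r : ℕ) < D.nroots / 2) := by
    ext r
    simp only [Finset.mem_filter, Finset.mem_univ, true_and, Finset.mem_sdiff, not_lt]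
    rw [hTt.pos_iff r r.2]
    constructor
    · exact fun h => h.1
    · intro h
      refine ⟨h, fun h2 => ?_⟩
      exact hTt.not_pos_and_neg h2 (T.chain_long.pos r ((hTt.pos_iff r r.2).mpr h))
  rw [h1, Finset.card_sdiff_of_subset (Finset.subset_univ _), Fin.card_filter_val_lt, Finset.card_univ,
    Fintype.card_fin]
  have := hTt.even
  omega

open Classical in
/-- `|U¹| = q^N`. -/
theorem card_U1 {q : ℕ}
    (hq : ∀ O (hO : O ∈ T.orbs), Nat.card ↥(Um D K (T.sO O) ⊓ T.F) =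
      q ^ invc (fun r : Fin D.nroots => D.IsPosRoot r) (X.act (T.sO O) (T.sO_mem_N hO))) :
    Nat.card ↥(D.posUnipotent K ⊓ T.G1) = q ^ (D.nroots / 2) := by
  rw [U_inf_G1 T, ← Um_cn T]
  exact T.card_Um_fix hq _ _ (cn_mem_N T) (T.cn_mem T.chain_mem) (invc_cn T)

open Classical in
/-- `|U¹|² = q^N`. -/
theorem card_U1_sq {q : ℕ}
    (hq : ∀ O (hO : O ∈ T.orbs), Nat.card ↥(Um D K (T.sO O) ⊓ T.F) ^ 2 =
      q ^ invc (fun r : Fin D.nroots => D.IsPosRoot r) (X.act (T.sO O) (T.sO_mem_N hO))) :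
    Nat.card ↥(D.posUnipotent K ⊓ T.G1) ^ 2 = q ^ (D.nroots / 2) := by
  rw [U_inf_G1 T, ← Um_cn T]
  exact T.card_Um_fix_sq hq _ _ (cn_mem_N T) (T.cn_mem T.chain_mem) (invc_cn T)

/-- the decomposition of `G¹`. -/
noncomputable def nfEquiv :
    (Σ n : ↥(N1s T), ↥(D.posUnipotent K ⊓ T.G1) × ↥(Um D K n.1 ⊓ T.G1)) ≃ ↥T.G1 :=
  Equiv.ofBijective (fun p => ⟨p.2.1.1 * p.1.1 * p.2.2.1,
    mul_mem (mul_mem p.2.1.2.2 p.1.2.2) p.2.2.2.2⟩) (by
    constructor
    · rintro ⟨⟨n, hn, hn1⟩, ⟨u, hu, hu1⟩, ⟨v, hv, hv1⟩⟩ ⟨⟨n', hn', hn1'⟩, ⟨u', hu', hu1'⟩, ⟨v', hv', hv1'⟩⟩ e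
      have e' : u * n * v = u' * n' * v' := congrArg Subtype.val e
      obtain ⟨rfl, rfl, rfl⟩ := X.nf_unique hu hu' hn hn' hv hv' e'
      rfl
    · rintro ⟨g, hg⟩
      obtain ⟨u₁, h1, g1, n, hn, gn, u₂, h2, g2, e⟩ := T.nf_G1 hg
      exact ⟨⟨⟨n, hn, gn⟩, ⟨u₁, h1, g1⟩, ⟨u₂, h2, g2⟩⟩, Subtype.ext e.symm⟩)

open Classical in
/-- the order of `G¹`, general form. -/
theorem card_G1_gen [Finite K] (c : Equiv.Perm (Fin D.nroots) → ℕ)
    (hc : ∀ n (hn : n ∈ D.monomialSubgroup K), n ∈ T.G1 → Nat.card ↥(Um D K n ⊓ T.F) = c (X.act n hn)) :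
    Nat.card ↥T.G1 = Nat.card ↥(D.posUnipotent K ⊓ T.G1) * Nat.card ↥(D.diagonalSubgroup K ⊓ T.G1) *
      ∑ π ∈ Finset.univ.filter (fun π : Equiv.Perm (Fin D.nroots) =>
        π ∈ Subgroup.closure (W1gens T)), c π := by
  have : Fintype K := Fintype.ofFinite K
  have : Fintype ↥(N1s T) := Fintype.ofFinite _
  rw [← Nat.card_congr (nfEquiv T), Nat.card_sigma]
  have h1 : ∀ n : ↥(N1s T), Nat.card (↥(D.posUnipotent K ⊓ T.G1) × ↥(Um D K n.1 ⊓ T.G1)) =
      Nat.card ↥(D.posUnipotent K ⊓ T.G1) * c (actH T n) := by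
    intro n
    rw [Nat.card_prod, Um_inf_G1 T, hc n.1 n.2.1 n.2.2]
    rfl
  simp_rw [h1]
  rw [← Finset.mul_sum, sum_comp_hom (actH T) c, card_ker_actH T, mul_assoc]
  congr 2
  apply Finset.sum_congr _ (fun _ _ => rfl)
  ext π
  simp only [Finset.mem_filter, Finset.mem_univ, true_and, range_actH T]

open Classical in
/-- the order of `G¹`. -/
theorem card_G1 [Finite K] {q : ℕ}
    (hq : ∀ O (hO : O ∈ T.orbs), Nat.card ↥(Um D K (T.sO O) ⊓ T.F) =
      q ^ invc (fun r : Fin D.nroots => D.IsPosRoot r) (X.act (T.sO O) (T.sO_mem_N hO))) :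
    Nat.card ↥T.G1 = q ^ (D.nroots / 2) * Nat.card ↥(D.diagonalSubgroup K ⊓ T.G1) *
      ∑ π ∈ Finset.univ.filter (fun π : Equiv.Perm (Fin D.nroots) =>
        π ∈ Subgroup.closure (W1gens T)), q ^ invc (fun r : Fin D.nroots => D.IsPosRoot r) π := by
  rw [card_G1_gen T (fun π => q ^ invc (fun r : Fin D.nroots => D.IsPosRoot r) π)
    (fun n hn hn1 => T.card_Um_fix hq _ n hn hn1 rfl), card_U1 T hq]

open Classical in
/-- the order of `G¹`, when each root counts for `√q`. -/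
theorem card_G1_sq [Finite K] {q : ℕ}
    (hq : ∀ O (hO : O ∈ T.orbs), Nat.card ↥(Um D K (T.sO O) ⊓ T.F) ^ 2 =
      q ^ invc (fun r : Fin D.nroots => D.IsPosRoot r) (X.act (T.sO O) (T.sO_mem_N hO))) :
    Nat.card ↥T.G1 = Nat.sqrt (q ^ (D.nroots / 2)) * Nat.card ↥(D.diagonalSubgroup K ⊓ T.G1) *
      ∑ π ∈ Finset.univ.filter (fun π : Equiv.Perm (Fin D.nroots) =>
        π ∈ Subgroup.closure (W1gens T)), Nat.sqrt (q ^ invc (fun r : Fin D.nroots => D.IsPosRoot r) π) := by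
  rw [card_G1_gen T (fun π => Nat.sqrt (q ^ invc (fun r : Fin D.nroots => D.IsPosRoot r) π))
    (fun n hn hn1 => by rw [← T.card_Um_fix_sq hq _ n hn hn1 rfl, Nat.sqrt_eq']), ← card_U1_sq T hq,
    Nat.sqrt_eq']

end Cfsg.Agent.Lib.Helper18.FixB
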